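import Cfsg.Agent.AltLinear.Eigen

/-!
Dimensions of eigenspaces of operators of finite order prime to the characteristic.
-/

set_option autoImplicit false
set_option linter.unusedSectionVars false

namespace CfsgLib.E6AltSection

open Module CfsgLib.AltLinear

variable {k : Type*} [Field k] [IsAlgClosed k] {V : Type*} [AddCommGroup V] [Module k V] [FiniteDimensional k V]

/-- The dimension of an eigenspace. -/
noncomputable def edim (T : End k V) (μ : k) : ℕ := finrank k (End.eigenspace T μ)

theorem finrank_finsetSup_le {ι : Type*} [DecidableEq ι] (S : Finset ι) (U : ι → Submodule k V) :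
    finrank k ↥(S.sup U) ≤ ∑ i ∈ S, finrank k (U i) := by
  induction S using Finset.induction_on with
  | empty => simp
  | insert a S ha ih =>
    rw [Finset.sup_insert, Finset.sum_insert ha]
    have := Submodule.finrank_add_le_finrank_add_finrank (U a) (S.sup U)
    omega

/-- The eigenspaces exhaust the space. -/
theorem sum_edim {n : ℕ} [NeZero n] (T : End k V) (hn : (n : k) ≠ 0) (hT : T ^ n = 1) {ζ : k}
    (hζ : IsPrimitiveRoot ζ n) : ∑ i : Fin n, edim T (ζ ^ i.val) = finrank k V := by
  classical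
  refine le_antisymm ?_ ?_
  · refine sum_finrank_le (fun i : Fin n => End.eigenspace T (ζ ^ i.val))
      (fun j => Polynomial.aeval T (∏ l ∈ Finset.univ.erase j, (Polynomial.X - Polynomial.C (ζ ^ l.val))))
      (fun i j hij x hx => ?_) fun i x hx h0 => ?_
    · by_cases hx0 : x = 0
      · simp [hx0]
      rw [End.aeval_apply_of_hasEigenvector ⟨hx, hx0⟩, Polynomial.eval_prod,
        Finset.prod_eq_zero (Finset.mem_erase.2 ⟨hij, Finset.mem_univ i⟩) (by simp), zero_smul]
    · by_contra hx0
      rw [End.aeval_apply_of_hasEigenvector ⟨hx, hx0⟩, Polynomial.eval_prod] at h0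
      refine (Finset.prod_ne_zero_iff.2 fun l hl => ?_) ((smul_eq_zero.1 h0).resolve_right hx0)
      simp only [Polynomial.eval_sub, Polynomial.eval_X, Polynomial.eval_C]
      exact sub_ne_zero.2 fun h => Finset.ne_of_mem_erase hl (Fin.ext (hζ.pow_inj l.isLt i.isLt h.symm))
  · obtain ⟨E, hE⟩ : ∃ E : Fin n → Submodule k V, ∀ i, E i = End.eigenspace T (ζ ^ i.val) := ⟨_, fun _ => rfl⟩
    have htop : (Finset.univ : Finset (Fin n)).sup E = ⊤ := by
      refine eq_top_iff.2 ?_
      rw [← End.iSup_maxGenEigenspace_eq_top T]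
      refine iSup_le fun μ => ?_
      rw [End.IsFinitelySemisimple.maxGenEigenspace_eq_eigenspace
        (isSemisimple_of_pow T hn hT).isFinitelySemisimple μ]
      by_cases hb : End.eigenspace T μ = ⊥
      · rw [hb]; exact bot_le
      obtain ⟨v, hv, hv0⟩ := Submodule.exists_mem_ne_zero_of_ne_bot hb
      obtain ⟨i, hi, rfl⟩ := hζ.eq_pow_of_pow_eq_one
        (eigen_pow_eq_one T hT hv0 (End.mem_eigenspace_iff.1 hv))
      rw [show End.eigenspace T (ζ ^ i) = E ⟨i, hi⟩ from (hE ⟨i, hi⟩).symm]
      exact Finset.le_sup (Finset.mem_univ (⟨i, hi⟩ : Fin n))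
    have := finrank_finsetSup_le (k := k) (Finset.univ : Finset (Fin n)) E
    rw [htop, finrank_top] at this
    refine this.trans (le_of_eq (Finset.sum_congr rfl fun i _ => ?_))
    exact (LinearEquiv.ofEq _ _ (hE i)).finrank_eq

theorem edim_one_end [DecidableEq k] (μ : k) : edim (1 : End k V) μ = if μ = 1 then finrank k V else 0 := by
  split_ifs with h
  · subst h
    rw [edim, show End.eigenspace (1 : End k V) (1 : k) = ⊤ from eq_top_iff.2 fun x _ =>
      End.mem_eigenspace_iff.2 (by simp), finrank_top]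
  · rw [edim, show End.eigenspace (1 : End k V) μ = ⊥ from (Submodule.eq_bot_iff _).2 fun x hx => by
      have h1 : (μ - 1) • x = 0 := by
        rw [sub_smul, one_smul, ← End.mem_eigenspace_iff.1 hx, End.one_apply, sub_self]
      exact (smul_eq_zero.1 h1).resolve_left (sub_ne_zero.2 h), finrank_bot]

theorem edim_restrict (T : End k V) (U : Submodule k V) (hU : ∀ x ∈ U, T x ∈ U) (μ : k) :
    edim (T.restrict hU : End k U) μ = finrank k ↥(U ⊓ End.eigenspace T μ) := by
  rw [edim, (Submodule.equivMapOfInjective U.subtype U.subtype_injective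
    (End.eigenspace (T.restrict hU : End k U) μ)).finrank_eq]
  refine LinearEquiv.finrank_eq (LinearEquiv.ofEq _ _ ?_)
  ext x
  simp only [Submodule.mem_map, End.mem_eigenspace_iff, Submodule.mem_inf, Submodule.subtype_apply]
  constructor
  · rintro ⟨y, hy, rfl⟩
    exact ⟨y.2, by simpa using congrArg Subtype.val hy⟩
  · rintro ⟨hx, he⟩
    exact ⟨⟨x, hx⟩, Subtype.ext (by simpa using he), rfl⟩

theorem sum_inf {n : ℕ} [NeZero n] (T : End k V) (hn : (n : k) ≠ 0) (hT : T ^ n = 1) {ζ : k}
    (hζ : IsPrimitiveRoot ζ n) (U : Submodule k V) (hU : ∀ x ∈ U, T x ∈ U) :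
    ∑ i : Fin n, finrank k ↥(U ⊓ End.eigenspace T (ζ ^ i.val)) = finrank k U := by
  simp only [← edim_restrict T U hU]
  refine sum_edim _ hn ?_ hζ
  refine LinearMap.ext fun x => Subtype.ext ?_
  rw [Module.End.pow_restrict]
  simp [hT]

theorem edim_restrict_le (T : End k V) (U : Submodule k V) (hU : ∀ x ∈ U, T x ∈ U) (μ : k) :
    edim (T.restrict hU : End k U) μ ≤ edim T μ := by
  rw [edim_restrict]
  exact Submodule.finrank_mono inf_le_right

theorem mapQ_pow (T : End k V) (U : Submodule k V) (hU : ∀ x ∈ U, T x ∈ U) {n : ℕ} (hT : T ^ n = 1) :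
    (U.mapQ U T hU) ^ n = 1 := by
  refine Submodule.linearMap_qext _ (LinearMap.ext fun x => ?_)
  have h : ∀ i, ((U.mapQ U T hU) ^ i) (Submodule.Quotient.mk x) = Submodule.Quotient.mk ((T ^ i) x) := fun i => by
    induction i with
    | zero => simp
    | succ i ih => rw [pow_succ', Module.End.mul_apply, ih, Submodule.mapQ_apply, pow_succ', Module.End.mul_apply]
  simp [h, hT]

/-- Eigenspace dimensions are additive along an invariant subspace. -/
theorem edim_add {n : ℕ} [NeZero n] (T : End k V) (hn : (n : k) ≠ 0) (hT : T ^ n = 1)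
    (U : Submodule k V) (hU : ∀ x ∈ U, T x ∈ U) {ζ : k} (hζ : IsPrimitiveRoot ζ n) (μ : k) :
    edim T μ = edim (T.restrict hU : End k U) μ + edim (U.mapQ U T hU) μ := by
  have hTU : (T.restrict hU : End k U) ^ n = 1 := by
    refine LinearMap.ext fun x => Subtype.ext ?_
    rw [Module.End.pow_restrict]
    simp [hT]
  have hle : ∀ μ, edim T μ ≤ edim (T.restrict hU : End k U) μ + edim (U.mapQ U T hU) μ := by
    intro μ
    rw [edim_restrict, edim, edim]
    have hmap : ∀ x ∈ End.eigenspace T μ, U.mkQ x ∈ End.eigenspace (U.mapQ U T hU) μ := fun x hx => by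
      rw [End.mem_eigenspace_iff] at hx ⊢
      rw [Submodule.mkQ_apply, Submodule.mapQ_apply, hx, Submodule.Quotient.mk_smul]
    set f : End.eigenspace T μ →ₗ[k] End.eigenspace (U.mapQ U T hU) μ :=
      (U.mkQ.comp (End.eigenspace T μ).subtype).codRestrict _ fun x => hmap x x.2
    rw [← f.finrank_range_add_finrank_ker, add_comm]
    refine Nat.add_le_add ?_ (Submodule.finrank_le _)
    refine le_trans (le_of_eq ?_) (le_of_eq ?_) (b := finrank k ↥((LinearMap.ker f).map (End.eigenspace T μ).subtype))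
    · exact (Submodule.equivMapOfInjective _ (Submodule.subtype_injective _) _).finrank_eq
    · refine LinearEquiv.finrank_eq (LinearEquiv.ofEq _ _ ?_)
      ext x
      simp only [Submodule.mem_map, LinearMap.mem_ker, Submodule.mem_inf, Submodule.subtype_apply]
      constructor
      · rintro ⟨y, hy, rfl⟩
        exact ⟨(Submodule.Quotient.mk_eq_zero U).1 (congrArg Subtype.val hy), y.2⟩
      · rintro ⟨h1, h2⟩
        exact ⟨⟨x, h2⟩, Subtype.ext ((Submodule.Quotient.mk_eq_zero U).2 h1), rfl⟩
  by_cases hμ : ∃ i : Fin n, ζ ^ i.val = μ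
  · obtain ⟨i, rfl⟩ := hμ
    refine le_antisymm (hle _) ?_
    by_contra hlt
    have hs : ∑ i : Fin n, edim T (ζ ^ i.val) <
        ∑ i : Fin n, (edim (T.restrict hU : End k U) (ζ ^ i.val) + edim (U.mapQ U T hU) (ζ ^ i.val)) :=
      Finset.sum_lt_sum (fun j _ => hle _) ⟨i, Finset.mem_univ i, by omega⟩
    rw [Finset.sum_add_distrib, sum_edim T hn hT hζ, sum_edim _ hn hTU hζ,
      sum_edim _ hn (mapQ_pow T U hU hT) hζ, add_comm, U.finrank_quotient_add_finrank] at hs
    exact hs.false
  · have hz : ∀ {W : Type _} [AddCommGroup W] [Module k W] [FiniteDimensional k W] (S : End k W), S ^ n = 1 →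
        edim S μ = 0 := fun S hS => by
      rw [edim, Submodule.finrank_eq_zero, Submodule.eq_bot_iff]
      intro v hv
      by_contra hv0
      obtain ⟨i, hi, he⟩ := hζ.eq_pow_of_pow_eq_one (eigen_pow_eq_one S hS hv0 (End.mem_eigenspace_iff.1 hv))
      exact hμ ⟨⟨i, hi⟩, he⟩
    have := hle μ
    rw [hz T hT, hz _ hTU, hz _ (mapQ_pow T U hU hT)]

theorem edim_conj (T : End k V) (g g' : End k V) (hg : g' * g = 1) (hg' : g * g' = 1) (μ : k) :
    edim (g * T * g') μ = edim T μ := by
  let L : V ≃ₗ[k] V := LinearEquiv.ofLinear g g' hg' hg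
  rw [edim, edim, ← L.finrank_map_eq (End.eigenspace T μ)]
  refine LinearEquiv.finrank_eq (LinearEquiv.ofEq _ _ ?_)
  ext x
  simp only [Submodule.mem_map, End.mem_eigenspace_iff, LinearEquiv.coe_coe]
  have c1 : ∀ y, g' (g y) = y := fun y => DFunLike.congr_fun hg y
  have c2 : ∀ y, g (g' y) = y := fun y => DFunLike.congr_fun hg' y
  constructor
  · intro h
    refine ⟨g' x, ?_, c2 x⟩
    have := congrArg g' h
    simpa [Module.End.mul_apply, c1] using this
  · rintro ⟨y, hy, rfl⟩
    show g (T (g' (g y))) = μ • g y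
    rw [c1, hy, map_smul]

theorem eigen_sq {T : End k V} {l : ℕ} (hl : Odd l) (hT : T ^ l = 1) {μ : k} (hμ : μ ^ l = 1) :
    End.eigenspace (T ^ 2) (μ ^ 2) = End.eigenspace T μ := by
  obtain ⟨m, rfl⟩ := hl
  ext x
  simp only [End.mem_eigenspace_iff]
  refine ⟨fun h => ?_, fun h => pow_apply_eigen T h 2⟩
  have h1 := pow_apply_eigen (T ^ 2) h (m + 1)
  rwa [← pow_mul, ← pow_mul, show 2 * (m + 1) = 2 * m + 1 + 1 by ring, pow_succ, hT, one_mul,
    pow_succ, hμ, one_mul] at h1

/-- An operator conjugate to its square has eigenspace dimensions invariant under squaring. -/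
theorem edim_sq {T g g' : End k V} {l : ℕ} (hl : Odd l) (hT : T ^ l = 1) (hg : g' * g = 1) (hg' : g * g' = 1)
    (hc : g * T * g' = T ^ 2) {μ : k} (hμ : μ ^ l = 1) : edim T (μ ^ 2) = edim T μ := by
  rw [← edim_conj T g g' hg hg' (μ ^ 2), hc, edim, edim, eigen_sq hl hT hμ]

end CfsgLib.E6AltSection
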