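import Cfsg.Agent.E6AltSection.Eigen
import Cfsg.Agent.E6AltSection.Torus

/-!
Eigenspace dimensions of monomial isometries of order five and eleven that are conjugate to their squares.
-/

set_option autoImplicit false
set_option linter.unusedSectionVars false

namespace CfsgLib.E6AltSection

open Module Cfsg.Lie CfsgLib.ChevE6Cubic
open scoped Matrix

variable {k : Type} [Field k]

/-- The dimension of an eigenspace of a matrix. -/
noncomputable def mdim (M : Matrix I27 I27 k) (μ : k) : ℕ := edim (Matrix.toLinAlgEquiv' M) μ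

theorem mdim_diag (d : I27 → k) (μ : k) [DecidableEq k] :
    mdim (Matrix.diagonal d) μ = (Finset.univ.filter fun a => d a = μ).card := by
  classical
  rw [mdim, edim, ← Fintype.card_subtype]
  rw [← Module.finrank_fintype_fun_eq_card k]
  have happ : ∀ (v : I27 → k) a, Matrix.toLinAlgEquiv' (Matrix.diagonal d) v a = d a * v a := fun v a => by
    rw [Matrix.toLinAlgEquiv'_apply, Matrix.mulVec_diagonal]
  refine LinearEquiv.finrank_eq
    { toFun := fun v a => v.1 a.1
      invFun := fun w => ⟨fun a => if h : d a = μ then w ⟨a, h⟩ else 0, End.mem_eigenspace_iff.2 (funext fun a => ?_)⟩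
      map_add' := fun v w => rfl
      map_smul' := fun c v => rfl
      left_inv := fun v => Subtype.ext (funext fun a => ?_)
      right_inv := fun w => funext fun a => ?_ }
  · rw [happ, Pi.smul_apply, smul_eq_mul]
    by_cases h : d a = μ
    · rw [dif_pos h, h]
    · rw [dif_neg h, mul_zero, mul_zero]
  · show (if h : d a = μ then v.1 a else 0) = v.1 a
    by_cases h : d a = μ
    · rw [dif_pos h]
    · rw [dif_neg h]
      have e := congrFun (End.mem_eigenspace_iff.1 v.2) a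
      rw [happ, Pi.smul_apply, smul_eq_mul] at e
      by_contra hne
      exact h (mul_right_cancel₀ (fun h0 => hne h0.symm) e)
  · show (if h : d a.1 = μ then w ⟨a.1, h⟩ else 0) = w a
    rw [dif_pos a.2]

theorem MonoShape.comp {M N : Matrix I27 I27 k} {π σ : Equiv.Perm I27} {c d : I27 → k}
    (h : MonoShape M π c) (h' : MonoShape N σ d) :
    MonoShape (M * N) (π * σ) fun b => c (σ b) * d b := by
  refine ⟨fun a b => ?_, fun b => mul_ne_zero (h.2 _) (h'.2 b)⟩
  rw [Matrix.mul_apply, Finset.sum_eq_single (σ b)]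
  · rw [h'.1, if_pos rfl, h.1, ite_mul, zero_mul]
    rfl
  · intro a' _ hne
    rw [h'.1, if_neg hne, mul_zero]
  · simp

theorem MonoShape.unique {M : Matrix I27 I27 k} {π σ : Equiv.Perm I27} {c d : I27 → k}
    (h : MonoShape M π c) (h' : MonoShape M σ d) : π = σ := by
  refine Equiv.ext fun b => ?_
  by_contra hne
  refine h.2 b ?_
  have e := h'.1 (π b) b
  rwa [h.1, if_pos rfl, if_neg hne] at e

theorem MonoShape.one : MonoShape (1 : Matrix I27 I27 k) 1 fun _ => 1 :=
  ⟨fun a b => Matrix.one_apply, fun _ => one_ne_zero⟩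

theorem MonoShape.pow {M : Matrix I27 I27 k} {π : Equiv.Perm I27} {c : I27 → k} (h : MonoShape M π c) :
    ∀ i : ℕ, ∃ d, MonoShape (M ^ i) (π ^ i) d
  | 0 => ⟨fun _ => 1, by rw [pow_zero, pow_zero]; exact MonoShape.one⟩
  | i + 1 => by
    obtain ⟨d, hd⟩ := h.pow i
    exact ⟨_, by rw [pow_succ, pow_succ]; exact hd.comp h⟩

theorem MonoShape.perm_pow {M : Matrix I27 I27 k} {π : Equiv.Perm I27} {c : I27 → k} (h : MonoShape M π c)
    {n : ℕ} (hn : M ^ n = 1) : π ^ n = 1 := by
  obtain ⟨d, hd⟩ := h.pow n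
  rw [hn] at hd
  exact hd.unique MonoShape.one

/-- Every fifth root of unity is an eigenvalue of multiplicity at least five. -/
theorem five_le_mdim {M : Matrix I27 I27 k} {π : Equiv.Perm I27} {c : I27 → k} (h : MonoShape M π c)
    (hM : M ^ 5 = 1) (hπ : Pres π) (hne : π ≠ 1) {μ : k} (hμ : μ ^ 5 = 1) : 5 ≤ mdim M μ := by
  classical
  have h5 : π ^ 5 = 1 := h.perm_pow hM
  have hfix := fixed_le_six hπ h5 hne
  set Mv := Finset.univ.filter fun a => π a ≠ a with hMv
  have hMvc : 21 ≤ Mv.card := by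
    have := Finset.card_filter_add_card_filter_not (s := (Finset.univ : Finset I27)) (fun a => π a = a)
    rw [Finset.card_univ, show Fintype.card I27 = 27 from rfl] at this
    show 21 ≤ (Finset.univ.filter fun a => ¬ π a = a).card
    omega
  set orb : I27 → Finset I27 := fun a => (Finset.range 5).image fun i => (π ^ i) a with horb
  have hmod : ∀ (i : ℕ) a, (π ^ i) a = (π ^ (i % 5)) a := fun i a => by
    conv_lhs => rw [← Nat.div_add_mod i 5, pow_add, pow_mul, h5, one_pow, one_mul]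
  have horb' : ∀ (i : ℕ) a, orb ((π ^ i) a) = orb a := fun i a => by
    ext x
    simp only [horb, Finset.mem_image, Finset.mem_range]
    constructor
    · rintro ⟨j, -, rfl⟩
      exact ⟨(j + i) % 5, Nat.mod_lt _ (by norm_num), by rw [← hmod, pow_add, Equiv.Perm.mul_apply]⟩
    · rintro ⟨j, hj, rfl⟩
      refine ⟨(j + 4 * i) % 5, Nat.mod_lt _ (by norm_num), ?_⟩
      rw [← hmod, ← Equiv.Perm.mul_apply, ← pow_add, hmod (j + 4 * i + i), show (j + 4 * i + i) % 5 = j by omega]
  set O := Mv.image orb with hO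
  have hO5 : 5 ≤ O.card := by
    have hsub : Mv ⊆ O.biUnion id := fun a ha => Finset.mem_biUnion.2
      ⟨orb a, Finset.mem_image_of_mem _ ha, Finset.mem_image.2 ⟨0, by simp, by simp⟩⟩
    have h1 := (Finset.card_le_card hsub).trans (Finset.card_biUnion_le_card_mul O id 5 fun s hs => by
      obtain ⟨a, -, rfl⟩ := Finset.mem_image.1 hs
      exact (Finset.card_image_le).trans (by simp))
    omega
  obtain ⟨R, hRO, hR⟩ := Finset.exists_subset_card_eq hO5
  have hpre : ∀ s : R, ∃ a, a ∈ Mv ∧ orb a = s.1 := fun s => Finset.mem_image.1 (hRO s.2)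
  choose rep hrep hrepo using hpre
  -- the eigenvectors
  let f : I27 → I27 → k := fun a =>
    ∑ i ∈ Finset.range 5, (μ ^ (4 * i)) • ((M ^ i) *ᵥ Pi.single a 1)
  have hsupp : ∀ (i : ℕ) a b, ((M ^ i) *ᵥ Pi.single a (1 : k)) b ≠ 0 → b = (π ^ i) a := by
    intro i a b hb
    obtain ⟨d, hd⟩ := h.pow i
    rw [Matrix.mulVec_single_one, Matrix.col_apply, hd.1] at hb
    by_contra hne'
    exact hb (if_neg hne')
  have hval : ∀ a b, f a b ≠ 0 → b ∈ orb a := fun a b hb => by
    obtain ⟨i, hi, hi'⟩ := Finset.exists_ne_zero_of_sum_ne_zero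
      (show ∑ i ∈ Finset.range 5, ((μ ^ (4 * i)) • ((M ^ i) *ᵥ Pi.single a (1 : k))) b ≠ 0 by
        simpa only [f, Finset.sum_apply] using hb)
    rw [Pi.smul_apply, smul_eq_mul] at hi'
    exact Finset.mem_image.2 ⟨i, hi, (hsupp i a b (right_ne_zero_of_mul hi')).symm⟩
  have hdiag : ∀ a ∈ Mv, f a a = 1 := fun a ha => by
    simp only [f, Finset.sum_apply, Pi.smul_apply, smul_eq_mul]
    rw [Finset.sum_eq_single 0]
    · simp
    · intro i hi hi0
      by_contra hb
      have e := hsupp i a a (right_ne_zero_of_mul hb)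
      have hi5 : i < 5 := Finset.mem_range.1 hi
      refine (Finset.mem_filter.1 ha).2 ?_
      obtain ⟨j, hj⟩ : ∃ j : ℕ, (i * j) % 5 = 1 := by
        interval_cases i
        exacts [absurd rfl hi0, ⟨1, rfl⟩, ⟨3, rfl⟩, ⟨2, rfl⟩, ⟨4, rfl⟩]
      have hfx : ∀ j : ℕ, (π ^ (i * j)) a = a := fun j => by
        induction j with
        | zero => simp
        | succ j ih => rw [Nat.mul_succ, pow_add, Equiv.Perm.mul_apply, ← e, ih]
      have := hfx j
      rwa [hmod, hj, pow_one] at this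
    · simp
  have heig : ∀ a, Matrix.toLinAlgEquiv' M (f a) = μ • f a := fun a => by
    have e5 : M ^ 5 *ᵥ (Pi.single a (1 : k)) = Pi.single a 1 := by rw [hM, Matrix.one_mulVec]
    simp only [f, Matrix.toLinAlgEquiv'_apply, Matrix.mulVec_sum, Matrix.mulVec_smul, Matrix.mulVec_mulVec,
      ← pow_succ', Finset.smul_sum, smul_smul]
    rw [Finset.sum_range_succ' (fun i => μ ^ (4 * i + 1) • ((M ^ i) *ᵥ Pi.single a (1 : k))) 4,
      Finset.sum_range_succ (fun i => μ ^ (4 * i) • ((M ^ (i + 1)) *ᵥ Pi.single a (1 : k))) 4]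
    rw [e5, pow_zero, Matrix.one_mulVec]
    congr 1
    · refine Finset.sum_congr rfl fun i _ => ?_
      congr 1
      rw [show 4 * (i + 1) + 1 = 4 * i + 5 by ring, pow_add, hμ, mul_one]
    · congr 1
      rw [show 4 * 4 = 5 * 3 + 1 by norm_num, pow_add, pow_mul, hμ, one_pow, one_mul, mul_zero, zero_add]
  have hind : LinearIndependent k fun s : R => (⟨f (rep s), End.mem_eigenspace_iff.2 (heig _)⟩ :
      End.eigenspace (Matrix.toLinAlgEquiv' M) μ) := by
    rw [Fintype.linearIndependent_iff]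
    intro g hg s
    have e := congrFun (congrArg Subtype.val hg) (rep s)
    simp only [Submodule.coe_sum, Submodule.coe_smul, Finset.sum_apply, Pi.smul_apply, smul_eq_mul,
      ZeroMemClass.coe_zero, Pi.zero_apply] at e
    rw [Finset.sum_eq_single s] at e
    · rwa [hdiag _ (hrep s), mul_one] at e
    · intro t _ hne'
      by_contra hb
      obtain ⟨i, -, hi⟩ := Finset.mem_image.1 (hval _ _ (right_ne_zero_of_mul hb))
      refine hne' (Subtype.ext ?_)
      rw [← hrepo t, ← hrepo s, ← hi, horb']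
    · exact fun h' => absurd (Finset.mem_univ s) h'
  have := hind.fintype_card_le_finrank
  rwa [Fintype.card_coe, hR] at this

variable [IsAlgClosed k]

theorem toEnd_pow {M : Matrix I27 I27 k} {n : ℕ} (h : M ^ n = 1) : Matrix.toLinAlgEquiv' M ^ n = 1 := by
  rw [← map_pow, h, map_one]

theorem mdim_sq {M : Matrix I27 I27 k} {l : ℕ} (hl : Odd l) (hM : M ^ l = 1) {X X' : Matrix I27 I27 k}
    (hX : X' * X = 1) (hX' : X * X' = 1) (hc : X * M * X' = M ^ 2) {μ : k} (hμ : μ ^ l = 1) :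
    mdim M (μ ^ 2) = mdim M μ :=
  edim_sq hl (toEnd_pow hM) (g := Matrix.toLinAlgEquiv' X) (g' := Matrix.toLinAlgEquiv' X')
    (by rw [← map_mul, hX, map_one]) (by rw [← map_mul, hX', map_one])
    (by rw [← map_mul, ← map_mul, hc, map_pow]) hμ

theorem sum_mdim {M : Matrix I27 I27 k} {n : ℕ} [NeZero n] (hn : (n : k) ≠ 0) (hM : M ^ n = 1) {ζ : k}
    (hζ : IsPrimitiveRoot ζ n) : ∑ i : Fin n, mdim M (ζ ^ i.val) = 27 := by
  rw [show (27 : ℕ) = finrank k (I27 → k) by rw [Module.finrank_fintype_fun_eq_card]; rfl]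
  exact sum_edim _ hn (toEnd_pow hM) hζ

theorem exists_label {l : ℕ} [NeZero l] {ζ : k} (hζ : IsPrimitiveRoot ζ l) {x : k} (hx : x ^ l = 1) :
    ∃ v : ZMod l, ζ ^ v.val = x := by
  obtain ⟨i, hi, rfl⟩ := hζ.eq_pow_of_pow_eq_one hx
  exact ⟨(i : ZMod l), by rw [ZMod.val_cast_of_lt hi]⟩

/-- A diagonal isometry as a labelling. -/
theorem exists_lab {l : ℕ} [Fact l.Prime] {ζ : k} (hζ : IsPrimitiveRoot ζ l) {d : I27 → k}
    (hl : Odd l) {X X' : Matrix I27 I27 k} (hX : X' * X = 1) (hX' : X * X' = 1)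
    (hc : X * Matrix.diagonal d * X' = Matrix.diagonal d ^ 2) (hd : Matrix.diagonal d ^ l = 1)
    (htri : ∀ m ∈ monos, d m.2.1 * d m.2.2.1 * d m.2.2.2 = 1) (hne : Matrix.diagonal d ≠ 1) :
    ∃ κ : I27 → ZMod l, Lab κ ∧ (∀ v, mult κ (2 * v) = mult κ v) ∧ (∃ a, κ a ≠ 0) ∧
      ∀ v : ZMod l, mdim (Matrix.diagonal d) (ζ ^ v.val) = mult κ v := by
  classical
  have hdl : ∀ a, d a ^ l = 1 := fun a => by
    have := congrFun (congrFun hd a) a
    rwa [Matrix.diagonal_pow, Matrix.diagonal_apply_eq, Matrix.one_apply_eq, Pi.pow_apply] at this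
  choose κ hκ using fun a => exists_label hζ (hdl a)
  have hinj : ∀ v w : ZMod l, ζ ^ v.val = ζ ^ w.val → v = w := fun v w h =>
    ZMod.val_injective l (hζ.pow_inj (ZMod.val_lt v) (ZMod.val_lt w) h)
  have hdim : ∀ v : ZMod l, mdim (Matrix.diagonal d) (ζ ^ v.val) = mult κ v := fun v => by
    rw [mdim_diag, mult]
    refine congrArg Finset.card (Finset.filter_congr fun a _ => ?_)
    rw [← hκ a]
    exact ⟨fun h => hinj _ _ h, fun h => by rw [h]⟩
  refine ⟨κ, fun T hT => ?_, fun v => ?_, ?_, hdim⟩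
  · obtain ⟨m, hm, rfl⟩ := List.mem_map.1 hT
    have h := htri m hm
    rw [← hκ, ← hκ, ← hκ, ← pow_add, ← pow_add, hζ.pow_eq_one_iff_dvd, ← ZMod.natCast_eq_zero_iff] at h
    push_cast at h
    simp only [ZMod.natCast_zmod_val] at h
    simpa [add_assoc] using h
  · rw [← hdim, ← hdim, ← mdim_sq hl hd hX hX' hc (μ := ζ ^ v.val)
      (by rw [← pow_mul, mul_comm, pow_mul, hζ.pow_eq_one, one_pow]), ← pow_mul]
    rw [← Nat.mod_add_div (v.val * 2) l, pow_add, pow_mul, hζ.pow_eq_one, one_pow, mul_one]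
    congr 2
    rw [← ZMod.val_natCast]
    congr 1
    push_cast
    rw [ZMod.natCast_zmod_val, mul_comm]
  · by_contra hall
    push Not at hall
    refine hne ?_
    rw [← Matrix.diagonal_one]
    refine congrArg Matrix.diagonal (funext fun a => ?_)
    rw [← hκ, hall]
    simp

/-- The eigenvalue multiplicities at five. -/
theorem spectrum_five (h5 : (5 : k) ≠ 0) {ζ : k} (hζ : IsPrimitiveRoot ζ 5) {M : Matrix I27 I27 k}
    {π : Equiv.Perm I27} {c : I27 → k} (h : MonoShape M π c) (hM : M ^ 5 = 1) (hne : M ≠ 1) (hπ : Pres π)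
    (htri : π = 1 → ∀ m ∈ monos, c m.2.1 * c m.2.2.1 * c m.2.2.2 = 1)
    {X X' : Matrix I27 I27 k} (hX : X' * X = 1) (hX' : X * X' = 1) (hc : X * M * X' = M ^ 2) :
    mdim M 1 = 7 ∧ ∀ μ : k, μ ^ 5 = 1 → μ ≠ 1 → mdim M μ = 5 := by
  classical
  suffices hh : mdim M 1 = 7 ∧ ∀ v : ZMod 5, v ≠ 0 → mdim M (ζ ^ v.val) = 5 by
    refine ⟨hh.1, fun μ hμ hμ1 => ?_⟩
    obtain ⟨v, rfl⟩ := exists_label hζ hμ
    exact hh.2 v fun hv => hμ1 (by simp [hv])
  by_cases hp : π = 1
  · have hMd : M = Matrix.diagonal c := Matrix.ext fun a b => by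
      rw [h.1, hp, Equiv.Perm.one_apply, Matrix.diagonal_apply]
      by_cases hab : a = b
      · subst hab; simp
      · simp [hab]
    subst hMd
    obtain ⟨κ, hlab, hbal, hne', hdim⟩ := exists_lab hζ (by decide) hX hX' hc hM (htri hp) hne
    obtain ⟨h0, h1⟩ := lab_five hlab hbal hne'
    exact ⟨by rw [← h0, ← hdim, ZMod.val_zero, pow_zero], fun v hv => by rw [hdim, h1 v hv]⟩
  · have hsq : ∀ i, mdim M (ζ ^ (2 * i)) = mdim M (ζ ^ i) := fun i => by
      rw [mul_comm, pow_mul]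
      exact mdim_sq (by decide) hM hX hX' hc (by rw [← pow_mul, mul_comm, pow_mul, hζ.pow_eq_one, one_pow])
    have hge : ∀ i, 5 ≤ mdim M (ζ ^ i) := fun i =>
      five_le_mdim h hM hπ hp (by rw [← pow_mul, mul_comm, pow_mul, hζ.pow_eq_one, one_pow])
    have hsum := sum_mdim (n := 5) (by simpa using h5) hM hζ
    rw [Fin.sum_univ_five] at hsum
    simp only [Fin.val_zero, Fin.val_one, Fin.val_two] at hsum
    rw [show ((3 : Fin 5) : ℕ) = 3 from rfl, show ((4 : Fin 5) : ℕ) = 4 from rfl] at hsum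
    have e2 : mdim M (ζ ^ 2) = mdim M (ζ ^ 1) := hsq 1
    have e4 : mdim M (ζ ^ 4) = mdim M (ζ ^ 2) := hsq 2
    have e3 : mdim M (ζ ^ 3) = mdim M (ζ ^ 4) := by
      rw [← hsq 4, show 2 * 4 = 5 + 3 from rfl, pow_add, hζ.pow_eq_one, one_mul]
    have g0 := hge 0
    have g1 := hge 1
    rw [pow_zero] at hsum g0
    refine ⟨by omega, fun v hv => ?_⟩
    fin_cases v
    · exact absurd rfl hv
    · show mdim M (ζ ^ 1) = 5; omega
    · show mdim M (ζ ^ 2) = 5; omega
    · show mdim M (ζ ^ 3) = 5; omega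
    · show mdim M (ζ ^ 4) = 5; omega

/-- No diagonal isometry of order eleven is conjugate to its square. -/
theorem spectrum_eleven {ζ : k} (hζ : IsPrimitiveRoot ζ 11) {d : I27 → k} {X X' : Matrix I27 I27 k}
    (hX : X' * X = 1) (hX' : X * X' = 1) (hc : X * Matrix.diagonal d * X' = Matrix.diagonal d ^ 2)
    (hd : Matrix.diagonal d ^ 11 = 1) (htri : ∀ m ∈ monos, d m.2.1 * d m.2.2.1 * d m.2.2.2 = 1)
    (hne : Matrix.diagonal d ≠ 1) : False := by
  obtain ⟨κ, hlab, hbal, hne', -⟩ := exists_lab hζ (by decide) hX hX' hc hd htri hne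
  exact lab_eleven hlab hbal hne'

end CfsgLib.E6AltSection
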